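import Cfsg.Agent.H660.RF.Lr
import Cfsg.Agent.H902.RF.CB
import Cfsg.Agent.H902.RF.Deg

/-!
# S3509, row `²F₄(q)`, `q ≥ 8`: covers by elements of the socle (helper660)

* `transfer` : a cover by elements of `N ≅ Y` as a `Y`-set;
* `le_card` : `|Y-orbit| ≥` the minimal degree;
* `not_cov_count` : the counting;
* `inner_false` : no cover by elements of the socle if `|C(x)| ≤ q⁸` for all `x` of odd prime order.
-/

set_option autoImplicit false

namespace Cfsg.Agent.H660.RF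

open Subgroup MulAction Cfsg Cfsg.Lie
open Cfsg.Agent.H106.RC

section transfer

/-- a cover by elements of `N ≅ Y` as a `Y`-set -/
theorem transfer {G Ω ι Y : Type*} [Group G] [MulAction G Ω] [Group Y] {N : Subgroup G} (hE : Env G Ω N) (e : N ≃* Y)
    {x : ι → G} {r : ι → ℕ} (hx : PF x r) (hc : Cov Ω x) (hN : ∀ i, x i ∈ N) :
    ∃ (_ : MulAction Y Ω) (y : ι → Y), Env Y Ω (⊤ : Subgroup Y) ∧ PF y r ∧ Cov Ω y := by
  let φ : Y →* G := N.subtype.comp e.symm.toMonoidHom
  let _ : MulAction Y Ω := MulAction.compHom Ω φ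
  have hsm : ∀ (s : Y) (ω : Ω), s • ω = ((e.symm s : N) : G) • ω := fun s ω => rfl
  have hφ : Function.Injective φ := fun a b h => e.symm.injective (Subtype.ext h)
  have hv : ∀ i, φ (e ⟨x i, hN i⟩) = x i := fun i => by
    show ((e.symm (e ⟨x i, hN i⟩) : N) : G) = x i
    rw [MulEquiv.symm_apply_apply]
  refine ⟨inferInstance, fun i => e ⟨x i, hN i⟩, ?_, ⟨hx.prime, hx.inj, fun i => ?_, fun i h => ?_, fun i j => ?_⟩,
    fun ω => ?_⟩
  · refine { norm := inferInstance, simple := isSimple_cgr0 (e.trans Subgroup.topEquiv.symm) hE.simple, ncomm := ?_,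
             cent := ?_, nofix := ?_ }
    · intro hcom
      refine hE.ncomm ⟨⟨fun a b => ?_⟩⟩
      have h1 : (⟨e a, trivial⟩ : (⊤ : Subgroup Y)) * ⟨e b, trivial⟩ = ⟨e b, trivial⟩ * ⟨e a, trivial⟩ :=
        hcom.is_comm.comm _ _
      have h2 : e a * e b = e b * e a := congrArg Subtype.val h1
      rw [← map_mul, ← map_mul] at h2
      exact e.injective h2
    · rw [eq_bot_iff]
      intro s hs
      have h1 : φ s ∈ centralizer (N : Set G) := by
        rw [mem_centralizer_iff]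
        intro n hn
        have h2 := mem_centralizer_iff.1 hs (e ⟨n, hn⟩) trivial
        have h3 := congrArg φ h2
        rw [map_mul, map_mul] at h3
        have h4 : φ (e ⟨n, hn⟩) = n := by
          show ((e.symm (e ⟨n, hn⟩) : N) : G) = n
          rw [MulEquiv.symm_apply_apply]
        rwa [h4] at h3
      rw [hE.cent, mem_bot] at h1
      rw [mem_bot]
      exact hφ (by rw [h1, map_one])
    · intro ω hω
      refine hE.nofix ω fun n hn => ?_
      have h1 : e ⟨n, hn⟩ • ω = ω := hω (show e ⟨n, hn⟩ ∈ (⊤ : Subgroup Y) from trivial)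
      have h2 : ((e.symm (e ⟨n, hn⟩) : N) : G) • ω = ω := h1
      rw [MulEquiv.symm_apply_apply] at h2
      exact h2
  · apply hφ
    rw [map_pow, hv, hx.pow, map_one]
  · exact hx.ne i (by rw [← hv i, h, map_one])
  · apply hφ
    rw [map_mul, map_mul, hv, hv, hx.comm]
  · obtain ⟨i, hi⟩ := hc ω
    refine ⟨i, ?_⟩
    show φ (e ⟨x i, hN i⟩) • ω = ω
    rw [hv]
    exact hi

end transfer

section count

/-- a nontrivial transitive action has at least `d` points -/
theorem le_card {X : Type} [Group X] {d : ℕ} (hd : H122.MinDeg X d) {Y : Type} [Finite Y] [MulAction X Y]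
    (h : ∃ (g : X) (y : Y), g • y ≠ y) : d ≤ Nat.card Y := by
  classical
  have := Fintype.ofFinite Y
  let ρ : Representation ℂ X (Y → ℂ) :=
    { toFun := fun g => LinearMap.funLeft ℂ ℂ (fun y : Y => g⁻¹ • y)
      map_one' := by
        ext f y
        simp [LinearMap.funLeft_apply]
      map_mul' := fun g h => by
        ext f y
        simp [LinearMap.funLeft_apply, mul_smul] }
  have h1 := hd (Y → ℂ) ρ (by
    obtain ⟨g, y, hgy⟩ := h
    refine ⟨g, fun h2 => ?_⟩
    have h3 := congrFun (congrArg (fun f : (Y → ℂ) →ₗ[ℂ] (Y → ℂ) => f (Pi.single y 1)) h2) (g • y)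
    have h4 : (Pi.single y (1 : ℂ) : Y → ℂ) (g⁻¹ • g • y) = (Pi.single y (1 : ℂ) : Y → ℂ) (g • y) := h3
    rw [inv_smul_smul, Pi.single_eq_same, Pi.single_eq_of_ne hgy] at h4
    exact one_ne_zero h4)
  rwa [Module.finrank_fintype_fun_eq_card, ← Nat.card_eq_fintype_card] at h1

/-- the product of `k` different odd primes -/
theorem prod_ge {ι : Type*} [Fintype ι] (r : ι → ℕ) (hr : ∀ i, (r i).Prime) (hinj : Function.Injective r)
    (h2 : ∀ i, r i ≠ 2) : 3 * 5 ^ Fintype.card ι ≤ 5 * ∏ i, r i := by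
  classical
  have h5 : ∀ i, r i ≠ 3 → 5 ≤ r i := by
    intro i h
    have h1 := (hr i).two_le
    have h2 := h2 i
    have h4 : r i ≠ 4 := by
      intro h4
      have := hr i
      rw [h4] at this
      exact absurd this (by norm_num)
    omega
  by_cases hex : ∃ i0, r i0 = 3
  · obtain ⟨i0, h0⟩ := hex
    have h1 : ∏ i, r i = r i0 * ∏ i ∈ Finset.univ.erase i0, r i := (Finset.mul_prod_erase _ _ (Finset.mem_univ i0)).symm
    have h3 : 5 ^ (Fintype.card ι - 1) ≤ ∏ i ∈ Finset.univ.erase i0, r i := by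
      have h4 : ∏ _i ∈ Finset.univ.erase i0, 5 ≤ ∏ i ∈ Finset.univ.erase i0, r i :=
        Finset.prod_le_prod' fun i hi => h5 i fun h => Finset.ne_of_mem_erase hi (hinj (h.trans h0.symm))
      rwa [Finset.prod_const, Finset.card_erase_of_mem (Finset.mem_univ i0), Finset.card_univ] at h4
    have hpos : 0 < Fintype.card ι := Fintype.card_pos_iff.2 ⟨i0⟩
    have h4 : 5 ^ Fintype.card ι = 5 * 5 ^ (Fintype.card ι - 1) := by
      rw [← pow_succ', Nat.sub_add_cancel hpos]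
    rw [h1, h0, h4]
    nlinarith
  · push Not at hex
    have h4 : ∏ _i : ι, 5 ≤ ∏ i, r i := Finset.prod_le_prod' fun i _ => h5 i (hex i)
    rw [Finset.prod_const, Finset.card_univ] at h4
    omega

/-- `5^(q+3) * 3 > 5 q^8` for `q ≥ 8` -/
theorem num {q : ℕ} (hq : 8 ≤ q) : 5 * q ^ 8 < 3 * 5 ^ (q + 3) := by
  induction q, hq using Nat.le_induction with
  | base => norm_num
  | succ q hq ih =>
    have h1 : (q + 1) ^ 8 ≤ 5 * q ^ 8 := by
      have h2 : 8 * (q + 1) ≤ 9 * q := by omega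
      have h3 : (8 * (q + 1)) ^ 8 ≤ (9 * q) ^ 8 := Nat.pow_le_pow_left h2 8
      rw [mul_pow, mul_pow] at h3
      have h4 : 9 ^ 8 * q ^ 8 ≤ (5 * 8 ^ 8) * q ^ 8 := Nat.mul_le_mul_right _ (by norm_num)
      have h5 : 8 ^ 8 * (q + 1) ^ 8 ≤ 8 ^ 8 * (5 * q ^ 8) := by
        calc 8 ^ 8 * (q + 1) ^ 8 ≤ 9 ^ 8 * q ^ 8 := h3
          _ ≤ _ := h4
          _ = _ := by ring
      exact Nat.le_of_mul_le_mul_left h5 (by norm_num)
    calc 5 * (q + 1) ^ 8 ≤ 5 * (5 * q ^ 8) := Nat.mul_le_mul_left _ h1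
      _ < 5 * (3 * 5 ^ (q + 3)) := Nat.mul_lt_mul_of_pos_left ih (by norm_num)
      _ = _ := by ring

/-- **the counting** -/
theorem not_cov_count {X : Type} [Group X] [Finite X] {q : ℕ} (hq : 8 ≤ q)
    (hd : H122.MinDeg X (2 * (q - 1) * q ^ 4)) {Ω ι : Type} [Finite Ω] [Nonempty Ω] [MulAction X Ω] [Finite ι]
    (hE : Env X Ω (⊤ : Subgroup X)) {x : ι → X} {r : ι → ℕ} (hx : PF x r) (hc : Cov Ω x) (h2 : ∀ i, r i ≠ 2)
    (hC : ∀ i, Nat.card (centralizer ({x i} : Set X)) ≤ q ^ 8) : False := by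
  classical
  have := Fintype.ofFinite ι
  obtain ⟨ω⟩ := ‹Nonempty Ω›
  obtain ⟨i0, -⟩ := hc ω
  -- the number of members
  have hk : Fintype.card ι ≤ q + 2 := by
    by_contra hcon
    push Not at hcon
    have h1 : ∏ i, r i ∣ Nat.card (centralizer ({x i0} : Set X)) := by
      have e : ∏ i, r i = ∏ p ∈ Finset.univ.image r, p := by
        rw [Finset.prod_image fun a _ b _ h => hx.inj h]
      rw [e]
      refine Finset.prod_primes_dvd _ (fun p hp => ?_) (fun p hp => ?_)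
      · obtain ⟨i, -, rfl⟩ := Finset.mem_image.1 hp
        exact (hx.prime i).prime
      · obtain ⟨i, -, rfl⟩ := Finset.mem_image.1 hp
        have hm : x i ∈ centralizer ({x i0} : Set X) := by
          rw [mem_centralizer_singleton_iff]
          exact hx.comm i i0
        have h3 := orderOf_dvd_natCard (⟨x i, hm⟩ : centralizer ({x i0} : Set X))
        have := Fact.mk (hx.prime i)
        rwa [Subgroup.orderOf_mk, orderOf_eq_prime (hx.pow i) (hx.ne i)] at h3
    have h3 := (Nat.le_of_dvd Nat.card_pos h1).trans (hC i0)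
    have h4 := prod_ge r hx.prime hx.inj h2
    have h5 := num hq
    have h6 : 5 ^ (q + 3) ≤ 5 ^ Fintype.card ι := Nat.pow_le_pow_right (by norm_num) (by omega)
    have h7 : 3 * 5 ^ (q + 3) ≤ 5 * q ^ 8 := by
      calc 3 * 5 ^ (q + 3) ≤ 3 * 5 ^ Fintype.card ι := Nat.mul_le_mul_left _ h6
        _ ≤ 5 * ∏ i, r i := h4
        _ ≤ _ := Nat.mul_le_mul_left _ h3
    omega
  -- one orbit
  let Y := orbit X ω
  have hYf : Finite Y := inferInstance
  set d := 2 * (q - 1) * q ^ 4 with hdd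
  have hfix : ∀ i, d * Nat.card (fixedBy Y (x i)) ≤ d + q ^ 4 * Nat.card Y := fun i =>
    H902.RF.fix_le_of_minDeg hd (x i) (c := q ^ 4) (by rw [← pow_mul]; exact hC i)
  have hY : d ≤ Nat.card Y := by
    refine le_card hd ?_
    by_contra hcon
    push Not at hcon
    refine hE.nofix ω fun g _ => ?_
    have h1 := hcon g ⟨ω, mem_orbit_self ω⟩
    exact congrArg Subtype.val h1
  have hsum : Nat.card Y ≤ ∑ i, Nat.card (fixedBy Y (x i)) := by
    rw [← Nat.card_sigma]
    choose f hf using fun w : Ω => hc w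
    refine Nat.card_le_card_of_injective
      (fun w : Y => (⟨f w.1, ⟨w, Subtype.ext (hf w.1)⟩⟩ : Σ i, fixedBy Y (x i))) ?_
    intro a b hab
    exact congrArg (fun q : Σ i, fixedBy Y (x i) => (q.2 : Y)) hab
  have h3 : d * Nat.card Y ≤ Fintype.card ι * (d + q ^ 4 * Nat.card Y) := by
    calc d * Nat.card Y ≤ d * ∑ i, Nat.card (fixedBy Y (x i)) := Nat.mul_le_mul_left _ hsum
      _ = ∑ i, d * Nat.card (fixedBy Y (x i)) := by rw [Finset.mul_sum]
      _ ≤ ∑ _i : ι, (d + q ^ 4 * Nat.card Y) := Finset.sum_le_sum fun i _ => hfix i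
      _ = _ := by rw [Finset.sum_const, Finset.card_univ, smul_eq_mul]
  have h4 : d * Nat.card Y ≤ (q + 2) * (d + q ^ 4 * Nat.card Y) := h3.trans (Nat.mul_le_mul_right _ hk)
  -- `(q - 4) q^4 |Y| ≤ (q + 2) d`, `|Y| ≥ d`
  obtain ⟨t, rfl⟩ : ∃ t, q = t + 8 := ⟨q - 8, by omega⟩
  have e1 : t + 8 - 1 = t + 7 := by omega
  rw [e1] at hdd
  set Q := (t + 8) ^ 4 with hQ
  have hQpos : 4096 ≤ Q := by
    calc 4096 = 8 ^ 4 := by norm_num
      _ ≤ (t + 8) ^ 4 := Nat.pow_le_pow_left (by omega) 4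
  set y := Nat.card Y with hy
  rw [hdd] at h4 hY
  -- `2 (t+7) Q y ≤ (t+10) (2 (t+7) Q + Q y)`
  have h5 : 2 * (t + 7) * Q * y ≤ (t + 10) * (2 * (t + 7) * Q + Q * y) := h4
  have h6 : Q * (2 * (t + 7) * y) ≤ Q * ((t + 10) * (2 * (t + 7) + y)) := by
    calc Q * (2 * (t + 7) * y) = 2 * (t + 7) * Q * y := by ring
      _ ≤ _ := h5
      _ = _ := by ring
  have h7 : 2 * (t + 7) * y ≤ (t + 10) * (2 * (t + 7) + y) := Nat.le_of_mul_le_mul_left h6 (by omega)
  have h8 : 2 * (t + 7) * 4096 ≤ y := (Nat.mul_le_mul_left _ hQpos).trans hY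
  nlinarith

end count

/-- **no cover of the points by elements of the socle `²F₄(q)`** -/
theorem inner_false {K : Type} [Field K] [Fintype K] {m : ℕ} (hm : 1 ≤ m) (hK : Fintype.card K = 2 ^ (2 * m + 1))
    (hC : ∀ x : ↥(twistedF4 K (2 ^ m)), (orderOf x).Prime → orderOf x ≠ 2 →
      Nat.card (centralizer ({x} : Set ↥(twistedF4 K (2 ^ m)))) ≤ Nat.card K ^ 8)
    {G Ω ι : Type} [Group G] [MulAction G Ω] [Finite Ω] [Nonempty Ω] [Finite ι] {N : Subgroup G} (hE : Env G Ω N)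
    (e : N ≃* ↥(twistedF4 K (2 ^ m))) {x : ι → G} {r : ι → ℕ} (hx : PF x r) (hc : Cov Ω x) (hN : ∀ i, x i ∈ N) :
    False := by
  obtain ⟨inst, y, hE', hy, hc'⟩ := transfer hE e hx hc hN
  have hs : IsSimpleGroup ↥(twistedF4 K (2 ^ m)) := isSimple_cgr0 e hE.simple
  have hfin : Finite ↥(twistedF4 K (2 ^ m)) := inferInstance
  have : CharP K 2 := Cfsg.Agent.ChevalleyStructure.TwF4.Twisted.charP_two hK
  obtain ⟨φ, hφ⟩ := Cfsg.Agent.ChevalleyStructure.TwF4.TwistedFix.exists_rln hK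
  have hcK : Nat.card K = 2 ^ (2 * m + 1) := by rw [Nat.card_eq_fintype_card, hK]
  have h8 : 8 ≤ Nat.card K := by
    rw [hcK]
    calc 8 = 2 ^ 3 := by norm_num
      _ ≤ 2 ^ (2 * m + 1) := Nat.pow_le_pow_right (by norm_num) (by omega)
  have hF : ∃ c : Kˣ, c ≠ 1 := by
    have h1 : 1 < Nat.card Kˣ := by
      rw [Nat.card_units]
      omega
    have h2 : Nontrivial Kˣ := Finite.one_lt_card_iff_nontrivial.1 h1
    exact exists_ne 1
  have ho : ∀ i, orderOf (y i) = r i := fun i => by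
    have := Fact.mk (hy.prime i)
    exact orderOf_eq_prime (hy.pow i) (hy.ne i)
  by_cases h2 : ∃ i0, r i0 = 2
  · obtain ⟨i0, h0⟩ := h2
    exact not_cov_inv (Cfsg.Agent.KFacts.TwF4.Inst.full hK hφ) hF rfl hcK hE' hy hc' h0
  · push Not at h2
    have hd := H902.RF.minDeg_twF4 hm hK hs
    rw [← Nat.card_eq_fintype_card] at hd
    exact not_cov_count h8 hd hE' hy hc' h2 fun i => hC (y i) (by rw [ho]; exact hy.prime i) (by rw [ho]; exact h2 i)

end Cfsg.Agent.H660.RF
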