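import Cfsg.Agent.H380.RC.Rules
import Cfsg.Agent.H240.BalTwF.Sz
import Cfsg.Agent.H240.BalTwF.Tp
import Cfsg.Agent.H326.TF.Inv

/-!
# S3509, row `²F₄(q)`: covers with an involution (helper660)

* `K1` : `Z_4 ≤ [Q, d]` for `d ∈ C(Z_4)` of odd prime order;
* `K2` : `X_5 ≤ [NO, d]` for `d ∈ C(X_5)` of odd prime order;
* `not_cov_inv` : no cover of the points by commuting elements of different prime orders contains an involution.
-/

set_option autoImplicit false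
set_option linter.unusedSectionVars false

namespace Cfsg.Agent.H660.RF

open Subgroup MulAction Cfsg Matrix
open Cfsg.Agent.SplitTwo Cfsg.Agent.SplitTwo.ZS Cfsg.Agent.TitsThree.RankTwoZ Cfsg.Agent.SplitTwo.RootSysZ
open Cfsg.Agent.KFacts.TwF4 Cfsg.Agent.KFacts.TwF4.Arc Cfsg.Agent.KFacts.TwF4.Irr Cfsg.Agent.KFacts.TwF4.Perf
open Cfsg.Agent.KFacts.TwF4.Inv Cfsg.Agent.CpAutTwF.Cent
open Cfsg.Agent.H496.TwFRad.Levi (card_L4 card_Tk4 L4_inf_Q)
open Cfsg.Agent.H42.Deg.F4 (TM TM_le_T TM_le_LO card_TM card_LO)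
open Cfsg.Agent.H772.TF Cfsg.Agent.H240.BalTwF Cfsg.Agent.H326.TF
open Cfsg.Agent.H380.RC Cfsg.Agent.H106.RC

universe u

section gen

variable {G : Type*} [Group G]

theorem cmm_le {U : Subgroup G} {d : G} (hd : ∀ u ∈ U, d * u * d⁻¹ ∈ U) : cmm U d ≤ U := by
  rw [cmm, closure_le]
  rintro _ ⟨u, hu, rfl⟩
  have e : u * d * u⁻¹ * d⁻¹ = u * (d * u⁻¹ * d⁻¹) := by group
  rw [e]
  exact mul_mem hu (hd _ (inv_mem hu))

theorem cmm_mono {U V : Subgroup G} (h : U ≤ V) (d : G) : cmm U d ≤ cmm V d := by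
  rw [cmm, cmm]
  apply Subgroup.closure_mono
  rintro _ ⟨u, hu, rfl⟩
  exact ⟨u, h hu, rfl⟩

/-- conjugation of `[U, d]` -/
theorem cmm_cj {U : Subgroup G} {g d z : G} (hg : ∀ u ∈ U, g⁻¹ * u * g ∈ U) (hz : z ∈ cmm U (g * d * g⁻¹)) :
    g⁻¹ * z * g ∈ cmm U d := by
  have h : cmm U (g * d * g⁻¹) ≤ (cmm U d).comap (MulAut.conj g⁻¹).toMonoidHom := by
    rw [cmm, closure_le]
    rintro _ ⟨u, hu, rfl⟩
    change g⁻¹ * (u * (g * d * g⁻¹) * u⁻¹ * (g * d * g⁻¹)⁻¹) * g⁻¹⁻¹ ∈ cmm U d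
    have e : g⁻¹ * (u * (g * d * g⁻¹) * u⁻¹ * (g * d * g⁻¹)⁻¹) * g⁻¹⁻¹ =
        (g⁻¹ * u * g) * d * (g⁻¹ * u * g)⁻¹ * d⁻¹ := by group
    rw [e]
    exact mem_cmm (hg u hu)
  have h1 := h hz
  rw [mem_comap] at h1
  change g⁻¹ * z * g⁻¹⁻¹ ∈ cmm U d at h1
  rwa [inv_inv] at h1

/-- `Q = [Q, d] C_Q(d)` -/
theorem exists_factor [Finite G] {Q : Subgroup G} (hQ : IsPGroup 2 Q) {r : ℕ} (hr : r.Prime) (hr2 : r ≠ 2) {d : G}
    (hd : d ^ r = 1) (hdQ : ∀ x ∈ Q, d * x * d⁻¹ ∈ Q) {u : G} (hu : u ∈ Q) :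
    ∃ k ∈ cmm Q d, ∃ c ∈ Q, d * c = c * d ∧ u = k * c := by
  have hle := cmm_le hdQ
  obtain ⟨k, hk, h1⟩ := InvConj.conj_prime (Q := cmm Q d) (hQ.to_le hle) hr hr2 (w := u * d * u⁻¹) (d := d) (by
      rw [conj_pow, hd, mul_one, mul_inv_cancel]) hd (fun x hx => by
      have h : cmm Q d ≤ (cmm Q d).comap (MulAut.conj d).toMonoidHom := by
        conv_lhs => rw [cmm]
        rw [closure_le]
        rintro _ ⟨v, hv, rfl⟩
        change d * (v * d * v⁻¹ * d⁻¹) * d⁻¹ ∈ cmm Q d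
        have e : d * (v * d * v⁻¹ * d⁻¹) * d⁻¹ = (d * v * d⁻¹) * d * (d * v * d⁻¹)⁻¹ * d⁻¹ := by group
        rw [e]
        exact mem_cmm (hdQ v hv)
      exact h hx) (mem_cmm hu)
  refine ⟨k, hk, k⁻¹ * u, mul_mem (inv_mem (hle hk)) hu, ?_, by group⟩
  have h2 : k⁻¹ * u * d * u⁻¹ * k = d := by
    calc k⁻¹ * u * d * u⁻¹ * k = k⁻¹ * (u * d * u⁻¹) * k := by group
      _ = d := h1
  have h3 : k⁻¹ * u * d = d * (k⁻¹ * u) := by
    calc k⁻¹ * u * d = (k⁻¹ * u * d * u⁻¹ * k) * (k⁻¹ * u) := by simp only [mul_assoc, mul_inv_cancel_left,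
          inv_mul_cancel_left, inv_mul_cancel, mul_one]
      _ = d * (k⁻¹ * u) := by rw [h2]
  exact h3.symm

end gen

section sys

variable {F : Type*} [Field F] {σ : F →+* F} {G : Type u} [Group G] (S : Full σ G) [Finite F] [Finite G]

theorem pow_ne {G : Type*} [Group G] {d : G} {p : ℕ} (hp : p.Prime) (hp2 : p ≠ 2) (hd : orderOf d = p) : d ^ 2 ≠ 1 := by
  intro h
  have h1 := orderOf_dvd_of_pow_eq_one h
  rw [hd] at h1
  exact hp2 ((Nat.prime_dvd_prime_iff_eq hp Nat.prime_two).1 h1)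

/-! ### `Z_4 ≤ [Q, d]` -/

theorem cent_Q_all (hF : ∃ c : Fˣ, c ≠ 1) (hR : S.R.p = 2) {k : ℕ} (hq : Nat.card F = 2 ^ k) {p : ℕ} (hp : p.Prime)
    (hp2 : p ≠ 2) {y : G} (hy : y ∈ L4 S) (hyp : orderOf y = p) {u : G} (hu : u ∈ S.Q) (hc : y * u = u * y) :
    u ∈ S.XZ 4 := by
  have : Fact p.Prime := ⟨hp⟩
  by_cases h : p ∣ Nat.card F - 1
  · refine cent_Q_minus S hF hp ?_ hy hyp hu hc
    intro hd
    have h1 : 1 ≤ Nat.card F := Nat.card_pos
    have h2 := not_dvd_Z h1 hp hp2 h 2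
    exact h2 (by rwa [pow_two])
  · exact cent_Q_sq S hF hR hp2 h hy hyp hu hc

theorem K1_L4 (hF : ∃ c : Fˣ, c ≠ 1) (hR : S.R.p = 2) {k : ℕ} (hq : Nat.card F = 2 ^ k) {p : ℕ} (hp : p.Prime)
    (hp2 : p ≠ 2) {d : G} (hd : d ∈ L4 S) (hdp : orderOf d = p) (v : F) : S.e 2 0 v ∈ cmm S.Q d := by
  have hdP := L4_le_PL S hd
  have hdQ : ∀ x ∈ S.Q, d * x * d⁻¹ ∈ S.Q := fun x hx => Q_norm S hdP hx
  have hd1 : d ^ p = 1 := by rw [← hdp]; exact pow_orderOf_eq_one d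
  obtain ⟨m, hm, c, hc, hdc, h1⟩ := exists_factor (two_Q S hR) hp hp2 hd1 hdQ (u := S.e 3 1 0) (e3_Q S 1 0)
  have hc4 := cent_Q_all S hF hR hq hp hp2 hd hdp hc hdc
  have hoc : c * S.o 1 v = S.o 1 v * c := S.Q1_comm (mem_sup_left hc4) (S.q2_2 v)
  have h2 : S.o 1 v * S.e 3 1 0 = S.e 3 1 0 * S.o 1 v * S.e 2 0 (v * 1) := S.o_e2 1 v 1 0
  rw [mul_one] at h2
  have hz : ∀ x ∈ S.Q, x * S.e 2 0 v = S.e 2 0 v * x := fun x hx => S.comm_PL (Q_PL S hx) ⟨v, rfl⟩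
  have hoQ : S.o 1 v ∈ S.Q := Q1_le_Q S (mem_sup_right (S.q2_2 v))
  have hm1 : m = S.e 3 1 0 * c⁻¹ := by rw [h1]; group
  have h3 := cmm_comm hoQ hm
  have h4 : S.o 1 v * m * (S.o 1 v)⁻¹ * m⁻¹ = S.e 2 0 v := by
    have hc' : c⁻¹ * (S.o 1 v)⁻¹ * c = (S.o 1 v)⁻¹ := by
      rw [mul_assoc, inv_mul_eq_iff_eq_mul]
      calc (S.o 1 v)⁻¹ * c = (S.o 1 v)⁻¹ * (c * S.o 1 v) * (S.o 1 v)⁻¹ := by group
        _ = (S.o 1 v)⁻¹ * (S.o 1 v * c) * (S.o 1 v)⁻¹ := by rw [hoc]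
        _ = c * (S.o 1 v)⁻¹ := by group
    calc S.o 1 v * m * (S.o 1 v)⁻¹ * m⁻¹ = (S.o 1 v * S.e 3 1 0) * (c⁻¹ * (S.o 1 v)⁻¹ * c) * (S.e 3 1 0)⁻¹ := by
          rw [hm1]; group
      _ = S.e 3 1 0 * (S.o 1 v * S.e 2 0 v) * (S.o 1 v)⁻¹ * (S.e 3 1 0)⁻¹ := by rw [hc', h2]; group
      _ = S.e 3 1 0 * S.e 2 0 v * (S.e 3 1 0)⁻¹ := by rw [hz _ hoQ]; group
      _ = S.e 2 0 v := by rw [hz _ (e3_Q S 1 0)]; group
  rwa [h4] at h3

/-- **`Z_4 ≤ [Q, d]`** for `d ∈ C(Z_4)` of odd prime order -/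
theorem K1 (hF : ∃ c : Fˣ, c ≠ 1) (hR : S.R.p = 2) {k : ℕ} (hq : Nat.card F = 2 ^ k) {p : ℕ} (hp : p.Prime)
    (hp2 : p ≠ 2) {d : G} (hd : d ∈ S.PL) (hdp : orderOf d = p) (v : F) : S.e 2 0 v ∈ cmm S.Q d := by
  obtain ⟨b, hb, hb1⟩ := exists_conj_mem (L4_le_PL S) (n := Nat.card F ^ 10) hp (by
        rw [card_PL S hF, card_L4 S hF]; ring) (pow_ndvd hq hp hp2) hd hdp
  have h1 := K1_L4 S hF hR hq hp hp2 hb1 (by rw [orderOf_cj, hdp]) v
  have h2 := cmm_cj (fun u hu => by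
    have := Q_norm S (inv_mem hb) hu
    rwa [inv_inv] at this) h1
  have h3 : b⁻¹ * S.e 2 0 v * b = S.e 2 0 v := by
    rw [mul_assoc, inv_mul_eq_iff_eq_mul]
    exact (S.comm_PL hb ⟨v, rfl⟩).symm
  rwa [h3] at h2

/-! ### `X_5 ≤ [NO, d]` -/

/-- the general form of `Tp.comm` -/
theorem tp_comm' {g u u' : G} {A T T' : Matrix (Fin 2) (Fin 2) F} (hg : Rp S g A) (hu : u ∈ S.NO) (hu' : u' ∈ S.NO)
    (hT : Tp S u T) (hT' : Tp S u' T') (h : g * u = u' * g) : A * T = T' * A.map σ := by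
  apply Matrix.mulVec_injective
  funext v
  show (A * T).mulVec v = (T' * A.map σ).mulVec v
  rw [← Matrix.mulVec_mulVec, ← Matrix.mulVec_mulVec]
  obtain ⟨f, hf⟩ := hg.x v
  have hu2 : u * S.o 2 f = S.o 2 f * u := S.mem_centralizer_X5.1 hu.2 f
  have hu2' : u' * S.o 2 f = S.o 2 f * u' := S.mem_centralizer_X5.1 hu'.2 f
  have h2w : ∀ v', ww S v' * S.o 2 f = S.o 2 f * ww S v' := fun v' =>
    (S.W46_comm (mem_J (S.mX5 f) (by norm_num) (by norm_num)) (ww_mem S v')).symm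
  have hg2 := LO_o2 S hg.mem f
  have h1 : g * (u * xx S v) = xx S ((A.map σ).mulVec v) * ww S (A.mulVec (T.mulVec v)) * (S.o 2 f * (g * u)) := by
    calc g * (u * xx S v) = (g * xx S v) * ww S (T.mulVec v) * u := by rw [hT v]; group
      _ = xx S ((A.map σ).mulVec v) * S.o 2 f * (g * ww S (T.mulVec v)) * u := by rw [hf]; group
      _ = xx S ((A.map σ).mulVec v) * (S.o 2 f * ww S (A.mulVec (T.mulVec v))) * g * u := by rw [hg.w]; group
      _ = _ := by rw [← h2w]; group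
  have h2 : u' * (g * xx S v) = xx S ((A.map σ).mulVec v) * ww S (T'.mulVec ((A.map σ).mulVec v)) *
      (S.o 2 f * (u' * g)) := by
    calc u' * (g * xx S v) = (u' * xx S ((A.map σ).mulVec v)) * S.o 2 f * g := by rw [hf]; group
      _ = xx S ((A.map σ).mulVec v) * ww S (T'.mulVec ((A.map σ).mulVec v)) * (u' * S.o 2 f) * g := by rw [hT']; group
      _ = _ := by rw [hu2']; group
  have h3 : g * (u * xx S v) = u' * (g * xx S v) := by rw [← mul_assoc, h, mul_assoc]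
  rw [h1, h2, h] at h3
  exact ww_inj S (mul_left_cancel (mul_right_cancel h3))

/-- elements of `LO` -/
theorem LO_le_HO : S.LO ≤ S.HO := le_sup_left

theorem NO_le_J : S.NO ≤ J S.XZ 2 8 := inf_le_left

/-- `[a, b] ∈ o(s) W46` -/
def Pr (b a : G) (s : F) : Prop := ∃ w ∈ S.W46, a * b = b * a * (S.o 2 s * w)

theorem Pr.mul {b a a' : G} {s s' : F} (ha' : a' ∈ S.NO) (h : Pr S b a s) (h' : Pr S b a' s') :
    Pr S b (a * a') (s + s') := by
  obtain ⟨w, hw, h1⟩ := h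
  obtain ⟨w', hw', h2⟩ := h'
  refine ⟨w * w', mul_mem hw hw', ?_⟩
  have c1 : a' * S.o 2 s = S.o 2 s * a' := S.mem_centralizer_X5.1 ha'.2 s
  have c2 : a' * w = w * a' := S.W46_comm ha'.1 hw
  have c3 : S.o 2 s' * w = w * S.o 2 s' := S.W46_comm (mem_J (S.mX5 _) (by norm_num) (by norm_num)) hw
  rw [← S.o_add]
  calc a * a' * b = a * (a' * b) := by group
    _ = (a * b) * a' * (S.o 2 s' * w') := by rw [h2]; group
    _ = b * a * (S.o 2 s * (w * a')) * (S.o 2 s' * w') := by rw [h1]; group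
    _ = b * a * ((S.o 2 s * a') * w) * (S.o 2 s' * w') := by rw [← c2]; group
    _ = b * (a * a') * (S.o 2 s * (w * S.o 2 s') * w') := by rw [← c1]; group
    _ = _ := by rw [← c3]; group

theorem Pr.of {b a : G} {s : F} (u v : F) (h : a * b = b * a * (S.o 2 s * (S.e 2 0 u * S.e 3 0 v))) : Pr S b a s :=
  ⟨_, ⟨u, v, rfl⟩, h⟩

theorem Pr.zero {b a : G} (h : a * b = b * a) : Pr S b a 0 :=
  ⟨1, one_mem _, by rw [h, S.o_zero, one_mul, mul_one]⟩

theorem Pr.w {b a w : G} (hw : w ∈ S.W46) (h : a * b = b * a * w) : Pr S b a 0 :=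
  ⟨w, hw, by rw [h, S.o_zero, one_mul]⟩

theorem Pr.symm {b a : G} {s : F} (h : Pr S b a s) : Pr S a b s := by
  obtain ⟨w, hw, h⟩ := h
  refine ⟨w⁻¹, inv_mem hw, ?_⟩
  have c3 : S.o 2 s * w⁻¹ = w⁻¹ * S.o 2 s := S.W46_comm (mem_J (S.mX5 _) (by norm_num) (by norm_num)) (inv_mem hw)
  have h1 : b * a = a * b * (S.o 2 s * w)⁻¹ := by rw [h, mul_inv_cancel_right]
  rw [h1, c3, _root_.mul_inv_rev, o_inv]

theorem pr_mul_self (a : ZMod 8) (hW : ∀ u, S.e a 0 u ∈ S.W46) (p α v : F) : Pr S (S.e a v 0) (S.e a p α) 0 := by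
  refine Pr.w S (hW (p * σ v + v * σ p)) ?_
  rw [S.e_mul, S.e_mul, S.e_mul, map_zero, mul_zero, add_zero, add_comm p v]
  congr 1
  · ring
  · have h := S.two
    linear_combination (-(v * σ p)) * h

/-- the coordinates of an element of `NO` and the form -/
theorem pr_coord {B : G} {z b p α f r β i w s1 s2 s3 s4 : F}
    (h1 : Pr S B (S.e 1 0 z) s1) (h2 : Pr S B (S.o 1 b) 0) (h3 : Pr S B (S.e 2 p α) s2) (h4 : Pr S B (S.o 2 f) 0)
    (h5 : Pr S B (S.e 3 r β) s3) (h6 : Pr S B (S.o 3 i) 0) (h7 : Pr S B (S.e 4 0 w) s4) :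
    Pr S B (S.e 1 0 z * (S.o 1 b * S.e 2 p α * S.o 2 f * S.e 3 r β * S.o 3 i) * S.e 4 0 w) (s1 + (s2 + s3) + s4) := by
  have m3 : S.e 2 p α ∈ S.NO := S.J37_le (mem_J (S.mX4 _ _) (by norm_num) (by norm_num))
  have m2 : S.o 1 b ∈ S.NO := S.J37_le (mem_J (S.mX3 _) (by norm_num) (by norm_num))
  have m4 : S.o 2 f ∈ S.NO := S.J37_le (mem_J (S.mX5 _) (by norm_num) (by norm_num))
  have m5 : S.e 3 r β ∈ S.NO := S.J37_le (mem_J (S.mX6 _ _) (by norm_num) (by norm_num))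
  have m6 : S.o 3 i ∈ S.NO := S.J37_le (mem_J (S.mX7 _) (by norm_num) (by norm_num))
  have m7 := S.Z8_NO w
  have k := Pr.mul S m7 (Pr.mul S (mul_mem (mul_mem (mul_mem (mul_mem m2 m3) m4) m5) m6) h1
    (Pr.mul S m6 (Pr.mul S m5 (Pr.mul S m4 (Pr.mul S m3 h2 h3) h4) h5) h6)) h7
  convert k using 1
  ring

theorem pr_41 (z v : F) : Pr S (S.e 4 0 v) (S.e 1 0 z) (z * v) := by
  have h := S.e_e3 1 0 z 0 v
  norm_num [S.o_zero, S.e_zero] at h
  refine Pr.of S (σ z * v) (z * σ v) ?_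
  have c : S.e 2 0 (σ z * v) * S.o 2 (z * v) = S.o 2 (z * v) * S.e 2 0 (σ z * v) :=
    (S.W46_comm (mem_J (S.mX5 _) (by norm_num) (by norm_num)) (S.Z4_W46 _)).symm
  rw [h, ← mul_assoc (S.o 2 (z * v)), ← c]
  group

theorem pr_32 (v p α : F) : Pr S (S.e 3 v 0) (S.e 2 p α) (p * v) :=
  ⟨1, one_mem _, by rw [mul_one]; exact S.e_e1 2 p α v 0⟩

theorem pr_23 (v r β : F) : Pr S (S.e 2 v 0) (S.e 3 r β) (v * r) :=
  Pr.symm S ⟨1, one_mem _, by rw [mul_one]; exact S.e_e1 2 v 0 r β⟩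

theorem pr8 (z b p α f r β i w v : F) :
    Pr S (S.e 4 0 v) (S.e 1 0 z * (S.o 1 b * S.e 2 p α * S.o 2 f * S.e 3 r β * S.o 3 i) * S.e 4 0 w) (z * v) := by
  have k := pr_coord S (B := S.e 4 0 v) (z := z) (b := b) (p := p) (α := α) (f := f) (r := r) (β := β) (i := i) (w := w)
    (s1 := z * v) (s2 := 0) (s3 := 0) (s4 := 0)
    (pr_41 S z v)
    (by
      have h := S.o_e3 1 b 0 v
      norm_num [S.o_zero, S.e_zero] at h
      exact Pr.w S (S.Z6_W46 _) h)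
    (Pr.zero S (S.e_e2 2 p α 0 v))
    (by
      have h := S.o_e2 2 f 0 v
      norm_num [S.e_zero] at h
      exact Pr.zero S h)
    (by
      have h := S.e_e1 3 r β 0 v
      rw [mul_zero, S.o_zero, mul_one] at h
      exact Pr.zero S h)
    (Pr.zero S (S.o_e1 3 i 0 v))
    (Pr.zero S (by rw [ez_mul, ez_mul, add_comm]))
  convert k using 1
  ring

theorem pr2 (z b p α f r β i w v : F) :
    Pr S (S.e 1 0 v) (S.e 1 0 z * (S.o 1 b * S.e 2 p α * S.o 2 f * S.e 3 r β * S.o 3 i) * S.e 4 0 w) (v * w) := by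
  have k := pr_coord S (B := S.e 1 0 v) (z := z) (b := b) (p := p) (α := α) (f := f) (r := r) (β := β) (i := i) (w := w)
    (s1 := 0) (s2 := 0) (s3 := 0) (s4 := v * w)
    (Pr.zero S (by rw [ez_mul, ez_mul, add_comm]))
    (Pr.zero S (S.e_o0 1 0 v b).symm)
    (by
      have h := S.e_e1 1 0 v p α
      rw [zero_mul, S.o_zero, mul_one] at h
      exact Pr.zero S h.symm)
    (by
      have h := S.e_o1 1 0 v f
      rw [zero_mul, S.e_zero, mul_one] at h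
      exact Pr.zero S h.symm)
    (Pr.zero S (S.e_e2 1 0 v r β).symm)
    (by
      have h := S.e_o2 1 0 v i
      norm_num [S.o_zero, S.e_zero] at h
      exact Pr.symm S (Pr.w S (S.Z4_W46 _) h))
    (Pr.symm S (pr_41 S v w))
  convert k using 1
  ring

theorem pr6 (z b p α f r β i w v : F) :
    Pr S (S.e 3 v 0) (S.e 1 0 z * (S.o 1 b * S.e 2 p α * S.o 2 f * S.e 3 r β * S.o 3 i) * S.e 4 0 w) (p * v) := by
  have k := pr_coord S (B := S.e 3 v 0) (z := z) (b := b) (p := p) (α := α) (f := f) (r := r) (β := β) (i := i) (w := w)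
    (s1 := 0) (s2 := p * v) (s3 := 0) (s4 := 0)
    (Pr.zero S (S.e_e2 1 0 z v 0))
    (Pr.w S (S.Z4_W46 _) (S.o_e2 1 b v 0))
    (pr_32 S v p α)
    (Pr.zero S (S.o_e1 2 f v 0))
    (pr_mul_self S 3 S.Z6_W46 r β v)
    (Pr.zero S (S.e_o0 3 v 0 i).symm)
    (by
      have h := S.e_e1 3 v 0 0 w
      rw [mul_zero, S.o_zero, mul_one] at h
      exact Pr.zero S h.symm)
  convert k using 1
  ring

theorem pr4 (z b p α f r β i w v : F) :
    Pr S (S.e 2 v 0) (S.e 1 0 z * (S.o 1 b * S.e 2 p α * S.o 2 f * S.e 3 r β * S.o 3 i) * S.e 4 0 w) (v * r) := by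
  have k := pr_coord S (B := S.e 2 v 0) (z := z) (b := b) (p := p) (α := α) (f := f) (r := r) (β := β) (i := i) (w := w)
    (s1 := 0) (s2 := 0) (s3 := v * r) (s4 := 0)
    (by
      have h := S.e_e1 1 0 z v 0
      rw [zero_mul, S.o_zero, mul_one] at h
      exact Pr.zero S h)
    (Pr.zero S (S.o_e1 1 b v 0))
    (pr_mul_self S 2 S.Z4_W46 p α v)
    (Pr.zero S (S.e_o0 2 v 0 f).symm)
    (pr_23 S v r β)
    (Pr.symm S (Pr.w S (S.Z6_W46 _) (S.e_o1 2 v 0 i)))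
    (Pr.zero S (S.e_e2 2 v 0 0 w).symm)
  convert k using 1
  ring

/-- for `a ∈ NO` outside `X_3 X_7 X_5 W46` the commutators `[a, b]` cover `X_5` modulo `W46` -/
theorem exists_pr {a : G} (ha : a ∈ S.NO) (hT : ¬ Tp S a 0) (s : F) : ∃ b ∈ S.NO, Pr S b a s := by
  obtain ⟨z, b, p, α, f, r, β, i, w, rfl⟩ := NO_coord S ha
  have h4 : ∀ v, S.e 2 v 0 ∈ S.NO := fun v => S.J37_le (mem_J (S.mX4 _ _) (by norm_num) (by norm_num))
  have h6 : ∀ v, S.e 3 v 0 ∈ S.NO := fun v => S.J37_le (mem_J (S.mX6 _ _) (by norm_num) (by norm_num))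
  by_cases hz : z = 0
  · by_cases hp : p = 0
    · by_cases hr : r = 0
      · by_cases hw : w = 0
        · exfalso
          apply hT
          have := tp_coord S z b p α f r β i w
          rw [hz, hp, hr, hw] at this ⊢
          convert this using 1
          ext j k
          fin_cases j <;> fin_cases k <;> rfl
        · refine ⟨S.e 1 0 (s / w), S.Z2_NO _, ?_⟩
          have := pr2 S z b p α f r β i w (s / w)
          rwa [div_mul_cancel₀ _ hw] at this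
      · refine ⟨S.e 2 (s / r) 0, h4 _, ?_⟩
        have := pr4 S z b p α f r β i w (s / r)
        rwa [div_mul_cancel₀ _ hr] at this
    · refine ⟨S.e 3 (s / p) 0, h6 _, ?_⟩
      have := pr6 S z b p α f r β i w (s / p)
      rwa [mul_div_cancel₀ _ hp] at this
  · refine ⟨S.e 4 0 (s / z), S.Z8_NO _, ?_⟩
    have := pr8 S z b p α f r β i w (s / z)
    rwa [mul_div_cancel₀ _ hz] at this

/-- the matrix of `q d q⁻¹ d⁻¹` is not always zero -/
theorem exists_not_Tp (hF : ∃ c : Fˣ, c ≠ 1) (hR : S.R.p = 2) {d : G} (hd : d ∈ S.LO) (hd1 : d ≠ 1) :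
    ∃ a ∈ cmm S.NO d, ¬ Tp S a 0 := by
  by_contra hcon
  push Not at hcon
  obtain ⟨A, hdet, hA⟩ := exists_Rp S hd
  have hdH : d ∈ S.HO := LO_le_HO S hd
  -- all matrices commute
  have key : ∀ (q : G) (T : Matrix (Fin 2) (Fin 2) F), q ∈ S.NO → Tp S q T → A * T = T * A.map σ := by
    intro q T hq hT
    have hq' : d * q * d⁻¹ ∈ S.NO := KFacts.TwF4.Perf.NO_norm S hdH hq
    obtain ⟨T', hT', -⟩ := exists_Tp S hq'
    have h1 := hcon _ (mem_cmm hq)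
    have h2 : q * d * q⁻¹ * d⁻¹ ∈ S.NO := cmm_le (fun u hu => KFacts.TwF4.Perf.NO_norm S hdH hu) (mem_cmm hq)
    have h3 := Tp.mul (NO_le_J S h2) h1 hT'
    have e : q * d * q⁻¹ * d⁻¹ * (d * q * d⁻¹) = q := by group
    rw [e, zero_add] at h3
    have h4 : T = T' := Tp.uniq hT h3
    rw [← h4] at hT'
    exact tp_comm' S hA hq hq' hT hT' (by group)
  have k1 := key _ _ (S.J37_le (mem_J (S.mX4 _ _) (by norm_num) (by norm_num))) (tp_e2 S 1 0)
  have k2 := key _ _ (S.J37_le (mem_J (S.mX6 _ _) (by norm_num) (by norm_num))) (tp_e3 S 1 0)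
  have k3 := key _ _ (S.Z2_NO 1) (tp_e1 S 1)
  have a01 : A 0 1 = 0 := by
    have := congrFun (congrFun k1 0) 1
    simpa [mul2] using this
  have a10 : A 1 0 = 0 := by
    have := congrFun (congrFun k2 1) 0
    simpa [mul2] using this
  have a11 : A 1 1 = σ (A 1 1) := by
    have := congrFun (congrFun k1 1) 1
    simpa [mul2] using this
  have a00 : A 0 0 = σ (A 1 1) := by
    have := congrFun (congrFun k3 0) 1
    simpa [mul2] using this
  have hA1 : A = 1 := by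
    rw [Matrix.det_fin_two, a01, a00, ← a11] at hdet
    have h1 : (A 1 1 - 1) ^ 2 = 0 := by
      have h2 := S.two
      linear_combination hdet + (1 - A 1 1) * h2
    have h2 : A 1 1 = 1 := sub_eq_zero.1 (pow_eq_zero_iff (two_ne_zero) |>.1 h1)
    have h3 : A 0 0 = 1 := by rw [a00, ← a11, h2]
    ext j k
    fin_cases j <;> fin_cases k <;> simp [a01, a10, h2, h3]
  rw [hA1] at hA
  exact hd1 (Rp.eq_one S hF hR hA)

theorem K2_LO (hF : ∃ c : Fˣ, c ≠ 1) (hR : S.R.p = 2) {p : ℕ} (hp : p.Prime)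
    (hp2 : p ≠ 2) {d : G} (hd : d ∈ S.LO) (hdp : orderOf d = p) (s : F) : S.o 2 s ∈ cmm S.NO d := by
  have hdH : d ∈ S.HO := LO_le_HO S hd
  have hdN : ∀ x ∈ S.NO, d * x * d⁻¹ ∈ S.NO := fun x hx => KFacts.TwF4.Perf.NO_norm S hdH hx
  have hd1 : d ^ p = 1 := by rw [← hdp]; exact pow_orderOf_eq_one d
  have hne : d ≠ 1 := by
    rintro rfl
    rw [orderOf_one] at hdp
    exact hp.one_lt.ne hdp
  obtain ⟨A, hdet, hA⟩ := exists_Rp S hd
  have hA2 : A * A ≠ 1 := by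
    intro h0
    have h1 := hA.pow 2
    rw [pow_two A, h0] at h1
    exact pow_ne hp hp2 hdp (Rp.eq_one S hF hR h1)
  have hWN : S.W46 ≤ S.NO := fun w hw => by
    obtain ⟨u, v, rfl⟩ := hw
    exact mul_mem (S.J37_le (mem_J (S.mX4 _ _) (by norm_num) (by norm_num)))
      (S.J37_le (mem_J (S.mX6 _ _) (by norm_num) (by norm_num)))
  -- `W46 ≤ [NO, d]`
  have hW2 : IsPGroup 2 S.W46 := (two_J S hR (a := 4) (b := 6) (by norm_num)).to_le S.W46_le
  have hdW : ∀ x ∈ S.W46, d * x * d⁻¹ ∈ S.W46 := fun x hx => S.W46_conj (S.LO_le_J hd) hx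
  have hW : S.W46 ≤ cmm S.NO d := by
    intro w hw
    obtain ⟨k, hk, c, hc, hdc, rfl⟩ := exists_factor hW2 hp hp2 hd1 hdW hw
    obtain ⟨v, rfl⟩ := exists_ww S hc
    have h1 := hA.w v
    rw [hdc] at h1
    have h2 := ww_inj S (mul_right_cancel h1)
    have hv : v = 0 := by
      by_contra hne
      exact hA2 (fix_lem S.two hdet hne h2.symm)
    rw [hv, ww_zero, mul_one]
    exact cmm_mono hWN d hk
  obtain ⟨a, ha, haT⟩ := exists_not_Tp S hF hR hd hne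
  obtain ⟨b, hb, w, hw, h1⟩ := exists_pr S (cmm_le hdN ha) haT s
  have h2 := cmm_conj (inv_mem hb) ha
  have h3 := mul_mem (inv_mem ha) h2
  have e : a⁻¹ * (b⁻¹ * a * b⁻¹⁻¹) = S.o 2 s * w := by
    calc a⁻¹ * (b⁻¹ * a * b⁻¹⁻¹) = (b * a)⁻¹ * (a * b) := by group
      _ = _ := by rw [h1]; group
  rw [e] at h3
  have h4 := mul_mem h3 (inv_mem (hW hw))
  rwa [mul_inv_cancel_right] at h4

/-- **`X_5 ≤ [NO, d]`** for `d ∈ C(X_5)` of odd prime order -/
theorem K2 (hF : ∃ c : Fˣ, c ≠ 1) (hR : S.R.p = 2) {k : ℕ} (hq : Nat.card F = 2 ^ k) {p : ℕ} (hp : p.Prime)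
    (hp2 : p ≠ 2) {d : G} (hd : d ∈ S.HO) (hdp : orderOf d = p) (s : F) : S.o 2 s ∈ cmm S.NO d := by
  obtain ⟨b, hb, hb1⟩ := exists_conj_mem (H := S.LO) (M := S.HO) le_sup_left (n := Nat.card F ^ 9) hp (by
        rw [card_HO S hF, card_LO, Nat.card_units]; ring) (pow_ndvd hq hp hp2) hd hdp
  have h1 := K2_LO S hF hR hp hp2 hb1 (by rw [orderOf_cj, hdp]) s
  have h2 := cmm_cj (fun u hu => by
    have := KFacts.TwF4.Perf.NO_norm S (inv_mem hb) hu
    rwa [inv_inv] at this) h1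
  have h3 : b⁻¹ * S.o 2 s * b = S.o 2 s := by
    rw [mul_assoc, inv_mul_eq_iff_eq_mul]
    exact (S.mem_centralizer_X5.1 (S.HO_le_cent hb) s).symm
  rwa [h3] at h2

end sys

/-! ### covers with an involution -/

section cov

theorem PF.conj' {G ι : Type*} [Group G] {x : ι → G} {r : ι → ℕ} (h : PF x r) (k : G) :
    PF (fun i => k * x i * k⁻¹) r where
  prime := h.prime
  inj := h.inj
  pow i := by rw [conj_pow, h.pow, mul_one, mul_inv_cancel]
  ne i := fun h1 => h.ne i (by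
    have : k * x i = k := by
      have h2 := congrArg (· * k) h1
      simpa using h2
    exact mul_eq_left.1 this)
  comm i j := comm_cj (h.comm i j) k

theorem Cov.conj' {G Ω ι : Type*} [Group G] [MulAction G Ω] {x : ι → G} (h : Cov Ω x) (k : G) :
    Cov Ω (fun i => k * x i * k⁻¹) := by
  intro ω
  obtain ⟨i, hi⟩ := h (k⁻¹ • ω)
  refine ⟨i, ?_⟩
  show (k * x i * k⁻¹) • ω = ω
  rw [mul_smul, mul_smul, hi, smul_inv_smul]

variable {F : Type*} [Field F] {σ : F →+* F} {G : Type u} [Group G] (S : Full σ G) [Finite F] [Finite G]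

/-- **a cover of the points by commuting elements of different prime orders has no involution** -/
theorem not_cov_inv (hF : ∃ c : Fˣ, c ≠ 1) (hR : S.R.p = 2) {k : ℕ} (hq : Nat.card F = 2 ^ k)
    {Ω ι : Type*} [MulAction G Ω] [Nonempty Ω] [Finite ι] {N : Subgroup G} (hE : Env G Ω N) {x : ι → G} {r : ι → ℕ}
    (hx : PF x r) (hc : Cov Ω x) {i0 : ι} (h2 : r i0 = 2) : False := by
  have ho : ∀ (y : ι → G), PF y r → ∀ j, orderOf (y j) = r j := by
    intro y hy j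
    have := Fact.mk (hy.prime j)
    exact orderOf_eq_prime (hy.pow j) (hy.ne j)
  have hne2 : ∀ j : {j : ι // j ≠ i0}, r j.1 ≠ 2 := fun j h => j.2 (hx.inj (h.trans h2.symm))
  have hcop : ∀ {U : Subgroup G}, IsPGroup 2 U → ∀ j : {j : ι // j ≠ i0}, (r j.1).Coprime (Nat.card U) := by
    intro U hU j
    obtain ⟨n, hn⟩ := IsPGroup.iff_card.1 hU
    rw [hn]
    exact Nat.Coprime.pow_right n ((Nat.coprime_primes (hx.prime j.1) Nat.prime_two).2 (hne2 j))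
  have ht : x i0 * x i0 = 1 := by
    have := hx.pow i0
    rwa [h2, pow_two] at this
  rcases inv_cases S hF hR ht (hx.ne i0) with ⟨g, u, hu, hg⟩ | ⟨g, s, hs, hg⟩
  · have hx' := PF.conj' hx g
    have hc' := Cov.conj' hc g
    have hP : ∀ j, g * x j * g⁻¹ ∈ S.PL := by
      intro j
      have hz1 : S.e 2 0 u ≠ 1 := fun h => hu (S.e_eq_one h).2
      rw [← S.centralizer_z (z := S.e 2 0 u) ⟨u, rfl⟩ hz1, Subgroup.mem_centralizer_singleton_iff, ← hg]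
      exact hx'.comm j i0
    have : Group.IsNilpotent S.Q := (two_Q S hR).isNilpotent
    exact not_cov_lr hE (x := fun j : {j : ι // j ≠ i0} => g * x j.1 * g⁻¹) (r := fun j => r j.1)
      (fun j => hx.prime j.1) (fun j => hx'.pow j.1) (fun i j => hx'.comm i.1 j.1) (U := S.Q) (y := S.e 2 0 u)
      (fun ω => by
        obtain ⟨i, hi⟩ := hc' ω
        by_cases h : i = i0
        · subst h
          left
          rw [← hg]
          exact hi
        · exact Or.inr ⟨⟨i, h⟩, hi⟩)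
      (fun j v hv => Q_norm S (hP j.1) hv) this (hcop (two_Q S hR))
      (fun v hv => S.comm_PL (Q_PL S hv) ⟨u, rfl⟩) (fun h => hu (S.e_eq_one h).2)
      (fun j => K1 S hF hR hq (hx.prime j.1) (hne2 j) (hP j.1) (ho _ hx' j.1) u)
  · have hx' := PF.conj' hx g
    have hc' := Cov.conj' hc g
    have hP : ∀ j, g * x j * g⁻¹ ∈ S.HO := by
      intro j
      rw [← S.centralizer_o hs, Subgroup.mem_centralizer_singleton_iff, ← hg]
      exact hx'.comm j i0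
    have hN2 : IsPGroup 2 S.NO := (two_J S hR (a := 2) (b := 8) (by norm_num)).to_le inf_le_left
    have : Group.IsNilpotent S.NO := hN2.isNilpotent
    exact not_cov_lr hE (x := fun j : {j : ι // j ≠ i0} => g * x j.1 * g⁻¹) (r := fun j => r j.1)
      (fun j => hx.prime j.1) (fun j => hx'.pow j.1) (fun i j => hx'.comm i.1 j.1) (U := S.NO) (y := S.o 2 s)
      (fun ω => by
        obtain ⟨i, hi⟩ := hc' ω
        by_cases h : i = i0
        · subst h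
          left
          rw [← hg]
          exact hi
        · exact Or.inr ⟨⟨i, h⟩, hi⟩)
      (fun j v hv => KFacts.TwF4.Perf.NO_norm S (hP j.1) hv) this (hcop hN2)
      (fun v hv => S.mem_centralizer_X5.1 hv.2 s) (fun h => hs (S.o_eq_one h))
      (fun j => K2 S hF hR hq (hx.prime j.1) (hne2 j) (hP j.1) (ho _ hx' j.1) s)

end cov

end Cfsg.Agent.H660.RF
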