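import Cfsg.Agent.H660.RF.Inner
import Cfsg.Agent.H320.RF.OutB
import Cfsg.Agent.H448.TwFC.Small
import Cfsg.Agent.H448.TwFC.Minus

/-!
# S3509, row `²F₄(q)`, `q ≥ 8` (helper660)

`row_of` : the row, if `|C(x)| ≤ q⁸` for `x` of odd prime order not dividing `q - 1` commuting with an involution.
-/

set_option autoImplicit false

namespace Cfsg.Agent.H660.RF

open Subgroup MulAction Cfsg Cfsg.Lie
open Cfsg.Agent.H106.RC Cfsg.Agent.H873.RG

/-- the last centraliser bound -/
def CentInv : Prop :=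
  ∀ (K : Type) [Field K] [Fintype K] (m : ℕ), 1 ≤ m → Fintype.card K = 2 ^ (2 * m + 1) →
    ∀ (x v : ↥(twistedF4 K (2 ^ m))), (orderOf x).Prime → orderOf x ≠ 2 → ¬ orderOf x ∣ Nat.card K - 1 →
      orderOf v = 2 → Commute v x → Nat.card (centralizer ({x} : Set ↥(twistedF4 K (2 ^ m)))) ≤ Nat.card K ^ 8

/-- all elements of odd prime order -/
theorem cent_all (h : CentInv) {K : Type} [Field K] [Fintype K] {m : ℕ} (hm : 1 ≤ m)
    (hK : Fintype.card K = 2 ^ (2 * m + 1)) (x : ↥(twistedF4 K (2 ^ m))) (hp : (orderOf x).Prime) (h2 : orderOf x ≠ 2) :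
    Nat.card (centralizer ({x} : Set ↥(twistedF4 K (2 ^ m)))) ≤ Nat.card K ^ 8 := by
  by_cases h1 : orderOf x ∣ Nat.card K - 1
  · exact H448.TwFC.card_cent_minus hm hK hp h1 rfl
  · by_cases h5 : 5 ≤ orderOf x
    · rcases H448.TwFC.cent_ste_q8 hm hK hp h5 rfl with ⟨v, hv, hvx⟩ | h3
      · exact h K m hm hK x v hp h2 h1 hv hvx
      · exact h3
    · have h3 : orderOf x = 3 := by
        have h4 := hp.two_le
        have h6 : orderOf x ≠ 4 := by
          intro h4
          rw [h4] at hp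
          exact absurd hp (by norm_num)
        omega
      obtain ⟨v, hv, hvx⟩ := H448.TwFC.comm_inv_three hK h3
      exact h K m hm hK x v hp h2 h1 hv hvx

/-- **the row `²F₄(q)`** -/
theorem row_of (h : CentInv) : RowX (fun S _ => Lie.Iso2F4 S) := by
  intro S _ _ hS hiso hIH
  obtain ⟨K, _, _, m, hm, hK, ⟨e⟩⟩ := hiso
  refine rc_of_noCov hS.simple hS.ncomm ?_
  intro G _ _ Ω _ _ _ N hE e' ι _ x r hx hc _
  have hIH' : IHx (Nat.card ↥(twistedF4 K (2 ^ m))) := by rwa [← Nat.card_congr e.toEquiv]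
  exact inner_false hm hK (cent_all h hm hK) hE (e'.trans e) hx hc
    (H320.RF.mem_of_cov hm hK hIH' hE (e'.trans e) hx hc)

end Cfsg.Agent.H660.RF
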